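import Mathlib

/-! # Isolated cyclic subgroups -/

set_option autoImplicit false

namespace Cfsg.Lib.SP7

open Subgroup

/-- If the elements of prime order `r` of `⟨t⟩` have their centralisers inside `⟨t⟩` and `r` divides the order of `t`,
then every element order divisible by `r` divides the order of `t`. -/
theorem dvd_of_cent {G : Type*} [Group G] [Finite G] {t : G} {r : ℕ} (hr : r.Prime) (ht : r ∣ orderOf t)
    (h : ∀ x ∈ zpowers t, orderOf x = r → centralizer {x} ≤ zpowers t) {g : G} (hg : r ∣ orderOf g) :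
    orderOf g ∣ orderOf t := by
  have := Fact.mk hr
  have key : ∀ y : G, r ∣ orderOf y → ∃ P : Sylow r G, orderOf (y ^ (orderOf y / r)) = r ∧
      y ^ (orderOf y / r) ∈ P := fun y hy => by
    have e := orderOf_pow_orderOf_div (orderOf_pos y).ne' hy
    obtain ⟨P, hP⟩ := IsPGroup.exists_le_sylow (p := r) (P := zpowers (y ^ (orderOf y / r)))
      (IsPGroup.of_card (n := 1) (by rw [Nat.card_zpowers, e, pow_one]))
    exact ⟨P, e, hP (mem_zpowers _)⟩
  obtain ⟨P, e1, h1⟩ := key t ht
  obtain ⟨Q, e2, h2⟩ := key g hg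
  have : Nontrivial P := ⟨⟨_, h1⟩, 1, fun e => hr.one_lt.ne' (by
    rw [← e1, show t ^ (orderOf t / r) = 1 from congrArg Subtype.val e, orderOf_one])⟩
  have := P.isPGroup'.center_nontrivial
  obtain ⟨z, hz⟩ := exists_prime_orderOf_dvd_card' (G := center P) r
    ((P.isPGroup'.to_subgroup _).card_eq_or_dvd.resolve_left Finite.one_lt_card.ne')
  have c : ∀ x ∈ P, x ∈ centralizer {(z.1.1 : G)} := fun x hx => mem_centralizer_singleton_iff.2
    (congrArg Subtype.val (mem_center_iff.1 z.2 ⟨x, hx⟩))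
  have hP : (P : Subgroup G) ≤ zpowers t := fun x hx =>
    h _ (h _ (pow_mem (mem_zpowers t) _) e1 (mem_centralizer_singleton_iff.2
      (mem_centralizer_singleton_iff.1 (c _ h1)).symm)) (by rw [orderOf_coe, orderOf_coe, hz]) (c x hx)
  obtain ⟨k, rfl⟩ := MulAction.exists_smul_eq G Q P
  have h3 : MulAut.conj k (g ^ (orderOf g / r)) ∈ zpowers t := hP (smul_mem_pointwise_smul _ (MulAut.conj k) _ h2)
  have h4 : MulAut.conj k g ∈ zpowers t :=
    h _ h3 (by rw [MulEquiv.orderOf_eq, e2]) (mem_centralizer_singleton_iff.2 (by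
      rw [← map_mul, ← map_mul, (Commute.self_pow g _).eq]))
  rw [← (MulAut.conj k).orderOf_eq g]
  exact orderOf_dvd_of_mem_zpowers h4

end Cfsg.Lib.SP7
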